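import Mathlib
import Cfsg.Agent.Lib.Large.SLTwoThree

/-!
Groups which are a split extension of the extraspecial group `3^{1+2}` of exponent `3` by
`SL₂(3)` with the natural action are all isomorphic (helper45).
-/

set_option autoImplicit false

namespace CfsgLib.Recog45.HeisenbergFrame

open CfsgLib.Large.SLTwoThree

/-- the matrix group -/
abbrev SL := Matrix.SpecialLinearGroup (Fin 2) (ZMod 3)

/-- the plane -/
abbrev V := ZMod 3 × ZMod 3

/-- the symplectic form -/
def det (v w : V) : ZMod 3 := v.1 * w.2 - v.2 * w.1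

/-- the natural action -/
def act (s : SL) (v : V) : V :=
  (s.1 0 0 * v.1 + s.1 0 1 * v.2, s.1 1 0 * v.1 + s.1 1 1 * v.2)

theorem act_one (v : V) : act 1 v = v := by simp [act]

theorem act_mul (s t : SL) (v : V) : act (s * t) v = act s (act t v) := by
  simp [act, Matrix.SpecialLinearGroup.coe_mul, Matrix.mul_apply, Fin.sum_univ_two]
  constructor <;> ring

theorem det_act (s : SL) (v w : V) : det (act s v) (act s w) = det v w := by
  have h := s.2
  rw [Matrix.det_fin_two] at h
  simp only [det, act]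
  linear_combination (v.1 * w.2 - v.2 * w.1) * h

theorem act_injective {s : SL} (h : ∀ v, act s v = v) : s = 1 := by
  revert s
  decide +kernel

theorem act_fix_multiple : ∀ (s : SL) (v w : V), v ≠ 0 → act s v = v → det w v = 0 → act s w = w := by
  decide +kernel

theorem order_three_conj : ∀ u : SL, u ≠ 1 → u ^ 3 = 1 →
    ∃ s : SL, s * u * s⁻¹ = gW ∨ s * (u * u) * s⁻¹ = gW := by
  decide +kernel

theorem commuting_three : ∀ s t : SL, s ≠ 1 → s ^ 3 = 1 → t ^ 3 = 1 → s * t = t * s →
    t = 1 ∨ t = s ∨ t = s * s := by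
  decide +kernel

theorem neg_one_of_ne_one : ∀ s : SL, s ≠ 1 →
    s = -1 ∨ s ^ 2 = -1 ∨ s ^ 3 = -1 ∨ (s * gI * s⁻¹ * gI⁻¹) ^ 2 = -1 := by
  decide +kernel

theorem mul_sq_sq : ∀ s : SL, ∃ a b : SL, s = a ^ 2 * b ^ 2 := by
  decide +kernel

/-- The frame of a split extension. -/
structure Frame (X : Type*) [Group X] where
  /-- the normal subgroup -/
  r : V → ZMod 3 → X
  /-- the complement -/
  σ : SL →* X
  law : ∀ v z w y, r v z * r w y = r (v + w) (z + y - det v w)
  conj : ∀ s v z, σ s * r v z = r (act s v) z * σ s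
  bij : Function.Bijective fun p : (V × ZMod 3) × SL => r p.1.1 p.1.2 * σ p.2

variable {X Y : Type*} [Group X] [Group Y]

theorem Frame.mul_eq (A : Frame X) (v : V) (z : ZMod 3) (s : SL) (w : V) (y : ZMod 3) (t : SL) :
    A.r v z * A.σ s * (A.r w y * A.σ t) =
      A.r (v + act s w) (z + y - det v (act s w)) * A.σ (s * t) := by
  rw [map_mul, mul_assoc (A.r v z), ← mul_assoc (A.σ s), A.conj, mul_assoc (A.r _ y), ← A.law,
    mul_assoc]

/-- Two such extensions are isomorphic. -/
theorem Frame.nonempty_equiv (A : Frame X) (B : Frame Y) : Nonempty (X ≃* Y) := by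
  let eA := Equiv.ofBijective _ A.bij
  let eB := Equiv.ofBijective _ B.bij
  refine ⟨MulEquiv.mk' (eA.symm.trans eB) fun x y => ?_⟩
  obtain ⟨⟨⟨v, z⟩, s⟩, rfl⟩ := eA.surjective x
  obtain ⟨⟨⟨w, u⟩, t⟩, rfl⟩ := eA.surjective y
  have hmul : eA ((v, z), s) * eA ((w, u), t) =
      eA ((v + act s w, z + u - det v (act s w)), s * t) := A.mul_eq v z s w u t
  rw [hmul]
  simp only [Equiv.trans_apply, Equiv.symm_apply_apply]
  exact (B.mul_eq v z s w u t).symm

/-- the relations give a homomorphism -/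
theorem exists_hom {U : Type*} [Group U] {I J W : U} (h : Rel I J W) :
    ∃ φ : SL →* U, φ gI = I ∧ φ gJ = J ∧ φ gW = W := by
  let f : SL → U := fun x => nf I J W (nf_surjective x).choose
  have hf : ∀ t, f (nf gI gJ gW t) = nf I J W t := fun t => by
    show nf I J W _ = _
    rw [nf_injective _ _ (nf_surjective (nf gI gJ gW t)).choose_spec]
  have sI : ∀ x, f (gI * x) = I * f x := fun x => by
    obtain ⟨t, rfl⟩ := nf_surjective x
    rw [mul_I rel_sl, hf, hf, mul_I h]
  have sJ : ∀ x, f (gJ * x) = J * f x := fun x => by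
    obtain ⟨t, rfl⟩ := nf_surjective x
    rw [mul_J rel_sl, hf, hf, mul_J h]
  have sW : ∀ x, f (gW * x) = W * f x := fun x => by
    obtain ⟨t, rfl⟩ := nf_surjective x
    rw [mul_W rel_sl, hf, hf, mul_W h]
  have pI : ∀ (n : ℕ) x, f (gI ^ n * x) = I ^ n * f x := fun n => by
    induction n with
    | zero => simp
    | succ n ih => intro x; rw [pow_succ', mul_assoc, sI, ih, pow_succ', mul_assoc]
  have pJ : ∀ (n : ℕ) x, f (gJ ^ n * x) = J ^ n * f x := fun n => by
    induction n with
    | zero => simp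
    | succ n ih => intro x; rw [pow_succ', mul_assoc, sJ, ih, pow_succ', mul_assoc]
  have pW : ∀ (n : ℕ) x, f (gW ^ n * x) = W ^ n * f x := fun n => by
    induction n with
    | zero => simp
    | succ n ih => intro x; rw [pow_succ', mul_assoc, sW, ih, pow_succ', mul_assoc]
  have hmul : ∀ x y, f (x * y) = f x * f y := fun x y => by
    obtain ⟨t, rfl⟩ := nf_surjective x
    rw [hf]
    simp only [nf, mul_assoc]
    rw [pI, pJ, pW]
  have h1 : f 1 = 1 := (MonoidHom.mk' f hmul).map_one
  refine ⟨MonoidHom.mk' f hmul, ?_, ?_, ?_⟩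
  · show f gI = I
    rw [← mul_one gI, sI, h1, mul_one]
  · show f gJ = J
    rw [← mul_one gJ, sJ, h1, mul_one]
  · show f gW = W
    rw [← mul_one gW, sW, h1, mul_one]

end CfsgLib.Recog45.HeisenbergFrame
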