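import Mathlib
import Cfsg.Prelude.Def_Solvable
import Cfsg.Prelude.Def_Transfer
import Cfsg.Agent.Lib.PCore.Basic
import Cfsg.Agent.Lib.Recog45.HeisenbergFrame

/-!
A group `X` with `O₃(X) = 3^{1+2}` of exponent `3`, `X/O₃(X) ≅ SL₂(3)`, `O₂(X) = 1` and an
elementary abelian subgroup of order `27` carries a frame (helper45).
-/

set_option autoImplicit false

namespace CfsgLib.Recog45.ExtraThree

open CfsgLib.Large.SLTwoThree CfsgLib.Recog45.HeisenbergFrame

variable {X : Type*} [Group X]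

/-- power with exponent in `ZMod 3` -/
def P (g : X) (k : ZMod 3) : X := g ^ k.val

theorem P_add {g : X} (h : g ^ 3 = 1) (i j : ZMod 3) : P g (i + j) = P g i * P g j := by
  unfold P
  rw [← pow_add, ZMod.val_add, ← pow_eq_pow_mod _ h]

theorem pow_comm_pow {a b c : X} (hba : b * a = c * a * b) (hca : Commute c a) (hcb : Commute c b)
    (i j : ℕ) : b ^ j * a ^ i = c ^ (i * j) * (a ^ i * b ^ j) := by
  have h1 : ∀ j, b ^ j * a = c ^ j * (a * b ^ j) := by
    intro j
    induction j with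
    | zero => simp
    | succ j ih =>
      rw [pow_succ' b j, mul_assoc b, ih, ← mul_assoc b, ← (hcb.pow_left j).eq,
        mul_assoc (c ^ j), ← mul_assoc b a, hba]
      simp only [mul_assoc, pow_succ]
  induction i with
  | zero => simp
  | succ i ih =>
    have hcai : Commute (a ^ i) (c ^ j) := ((hca.pow_left j).pow_right i).symm
    calc b ^ j * a ^ (i + 1) = b ^ j * a ^ i * a := by rw [pow_succ, mul_assoc]
      _ = c ^ (i * j) * (a ^ i * (b ^ j * a)) := by rw [ih]; simp only [mul_assoc]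
      _ = c ^ (i * j) * (c ^ j * (a ^ i * (a * b ^ j))) := by
          rw [h1, ← mul_assoc (a ^ i) (c ^ j), hcai.eq]; simp only [mul_assoc]
      _ = _ := by
          rw [← mul_assoc (c ^ (i * j)), ← pow_add, pow_succ, Nat.succ_mul]
          simp only [mul_assoc]

/-- coordinates on the subgroup -/
def rr (a b c : X) (v : V) (z : ZMod 3) : X := P a v.1 * P b v.2 * P c (z + v.1 * v.2)

theorem rr_law {a b c : X} (ha : a ^ 3 = 1) (hb : b ^ 3 = 1) (hc : c ^ 3 = 1)
    (hba : b * a = c⁻¹ * a * b) (hca : Commute c a) (hcb : Commute c b) (v : V) (z : ZMod 3)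
    (w : V) (y : ZMod 3) :
    rr a b c v z * rr a b c w y = rr a b c (v + w) (z + y - det v w) := by
  have hci : c⁻¹ = c ^ 2 := by
    rw [inv_eq_iff_mul_eq_one, ← pow_succ', hc]
  have key : P b v.2 * P a w.1 = P c (-(v.2 * w.1)) * (P a w.1 * P b v.2) := by
    unfold P
    rw [pow_comm_pow (c := c ^ 2) (by rw [← hci, hba]) (hca.pow_left 2) (hcb.pow_left 2) _ _]
    congr 1
    rw [← pow_mul, pow_eq_pow_mod _ hc, pow_eq_pow_mod (-(v.2 * w.1)).val hc]
    congr 1
    generalize v.2 = p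
    generalize w.1 = q
    revert p q
    decide
  have cA : ∀ k l, Commute (P c k) (P a l) := fun k l => (hca.pow_left _).pow_right _
  have cB : ∀ k l, Commute (P c k) (P b l) := fun k l => (hcb.pow_left _).pow_right _
  unfold rr
  calc P a v.1 * P b v.2 * P c (z + v.1 * v.2) * (P a w.1 * P b w.2 * P c (y + w.1 * w.2))
      = P a v.1 * (P b v.2 * (P c (z + v.1 * v.2) * P a w.1)) *
          (P b w.2 * P c (y + w.1 * w.2)) := by simp only [mul_assoc]
    _ = P a v.1 * ((P b v.2 * P a w.1) * P c (z + v.1 * v.2)) *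
          (P b w.2 * P c (y + w.1 * w.2)) := by rw [(cA _ _).eq, ← mul_assoc (P b v.2)]
    _ = (P a v.1 * P c (-(v.2 * w.1))) * P a w.1 * P b v.2 *
          ((P c (z + v.1 * v.2) * P b w.2) * P c (y + w.1 * w.2)) := by
          rw [key]; simp only [mul_assoc]
    _ = P c (-(v.2 * w.1)) * ((P a v.1 * P a w.1) * (P b v.2 * P b w.2)) *
          (P c (z + v.1 * v.2) * P c (y + w.1 * w.2)) := by
          rw [← (cA _ _).eq, (cB (z + v.1 * v.2) w.2).eq]; simp only [mul_assoc]
    _ = (P a (v.1 + w.1) * P b (v.2 + w.2)) * P c (-(v.2 * w.1)) *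
          (P c (z + v.1 * v.2) * P c (y + w.1 * w.2)) := by
          rw [← P_add ha, ← P_add hb, ((cA _ _).mul_right (cB _ _)).eq]
    _ = _ := by
          rw [mul_assoc _ (P c (-(v.2 * w.1))), ← P_add hc, ← P_add hc]
          congr 2
          simp only [det, Prod.fst_add, Prod.snd_add]
          generalize v.1 = p1
          generalize v.2 = p2
          generalize w.1 = q1
          generalize w.2 = q2
          revert p1 p2 q1 q2 z y
          decide

/-- A frame on the normal subgroup `R`. -/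
structure Base (R : Subgroup X) where
  /-- coordinates -/
  r : V → ZMod 3 → X
  law : ∀ v z w y, r v z * r w y = r (v + w) (z + y - det v w)
  inj : ∀ v z w y, r v z = r w y → v = w ∧ z = y
  mem : ∀ v z, r v z ∈ R
  surj : ∀ x ∈ R, ∃ v z, r v z = x

variable {R : Subgroup X}

theorem Base.r_zero (B : Base R) : B.r 0 0 = 1 := by
  have h := B.law 0 0 0 0
  simp only [det, Prod.fst_zero, Prod.snd_zero, mul_zero, sub_zero, add_zero] at h
  exact mul_eq_left.1 h

theorem Base.r_inv (B : Base R) (v : V) (z : ZMod 3) : (B.r v z)⁻¹ = B.r (-v) (-z) := by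
  rw [inv_eq_iff_mul_eq_one, B.law, add_neg_cancel,
    show z + -z - det v (-v) = 0 by simp [det]; ring, B.r_zero]

theorem Base.conj_r (B : Base R) (v : V) (z : ZMod 3) (w : V) (y : ZMod 3) :
    B.r v z * B.r w y * (B.r v z)⁻¹ = B.r w (y + det v w) := by
  rw [B.r_inv, B.law, B.law]
  congr 1
  · abel
  · simp only [det, Prod.fst_add, Prod.snd_add, Prod.fst_neg, Prod.snd_neg]
    generalize v.1 = a
    generalize v.2 = b
    generalize w.1 = c
    generalize w.2 = d
    revert a b c d z y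
    decide

theorem Base.central_iff (B : Base R) {v : V} {z : ZMod 3}
    (h : ∀ x ∈ R, Commute (B.r v z) x) : v = 0 := by
  have h' : ∀ w, det v w = 0 := fun w => by
    have h1 := B.conj_r v z w 0
    rw [(h _ (B.mem w 0)).eq, mul_inv_cancel_right] at h1
    simpa using (B.inj _ _ _ _ h1).2.symm
  have h1 := h' (1, 0)
  have h2 := h' (0, 1)
  simp [det] at h1 h2
  exact Prod.ext h2 h1

theorem Base.commute_zero (B : Base R) (z : ZMod 3) {x : X} (hx : x ∈ R) :
    Commute (B.r 0 z) x := by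
  obtain ⟨w, y, rfl⟩ := B.surj x hx
  show B.r 0 z * B.r w y = B.r w y * B.r 0 z
  rw [B.law, B.law, zero_add, add_zero]
  simp [det, add_comm]

/-- Two non-commuting elements of an extraspecial group give coordinates. -/
theorem exists_base (hR : Nat.card R = 27) (hexp : ∀ x ∈ R, x ^ 3 = 1)
    (hclass : ∀ x ∈ R, ∀ y ∈ R, ∀ u ∈ R, Commute (x * y * x⁻¹ * y⁻¹) u)
    {a b : X} (ha : a ∈ R) (hb : b ∈ R) (hab : a * b * a⁻¹ * b⁻¹ ≠ 1) :
    ∃ B : Base R, B.r (1, 0) 0 = a ∧ B.r (0, 1) 0 = b := by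
  classical
  set c := a * b * a⁻¹ * b⁻¹ with hc
  have hcR : c ∈ R := R.mul_mem (R.mul_mem (R.mul_mem ha hb) (R.inv_mem ha)) (R.inv_mem hb)
  have hca : Commute c a := hclass a ha b hb a ha
  have hcb : Commute c b := hclass a ha b hb b hb
  have hba : b * a = c⁻¹ * a * b := by rw [hc]; group
  have hc3 := hexp c hcR
  have law := rr_law (hexp a ha) (hexp b hb) hc3 hba hca hcb
  have hP : ∀ (g : X), g ∈ R → ∀ k, P g k ∈ R := fun g hg k => R.pow_mem hg _
  have hr0 : rr a b c 0 0 = 1 := by simp [rr, P]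
  have hk : ∀ v z, rr a b c v z = 1 → v = 0 ∧ z = 0 := by
    intro v z h
    have hz0 : ∀ x y : ZMod 3, P c x = P c y → x = y := by
      intro x y hxy
      have hord : orderOf c = 3 := orderOf_eq_prime hc3 hab
      have := (pow_eq_pow_iff_modEq.1 hxy)
      rw [hord, Nat.ModEq, Nat.mod_eq_of_lt (ZMod.val_lt x), Nat.mod_eq_of_lt (ZMod.val_lt y)]
        at this
      exact ZMod.val_injective 3 this
    have hv : ∀ w, det v w = det w v := by
      intro w
      have h1 := law v z w 0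
      have h2 := law w 0 v z
      rw [h, one_mul] at h1
      rw [h, mul_one, add_comm w v, add_comm (0 : ZMod 3) z] at h2
      have h3 := h1.symm.trans h2
      unfold rr at h3
      have := hz0 _ _ (mul_left_cancel h3)
      simpa using this
    have h1 := hv (1, 0)
    have h2 := hv (0, 1)
    obtain ⟨v1, v2⟩ := v
    simp only [det] at h1 h2
    have d : ∀ p q : ZMod 3, p * 1 - q * 0 = 0 * q - 1 * p → p * 0 - q * 1 = 1 * q - 0 * p →
        p = 0 ∧ q = 0 := by decide
    obtain ⟨e1, e2⟩ := d v1 v2 h2 h1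
    subst e1 e2
    refine ⟨rfl, hz0 z 0 ?_⟩
    simp [rr, P] at h ⊢
    exact h
  have hinj : ∀ v z w y, rr a b c v z = rr a b c w y → v = w ∧ z = y := by
    intro v z w y h
    have h1 := law v z (-v) (-z)
    have h2 := law w y (-v) (-z)
    rw [h, h2, add_neg_cancel, show z + -z - det v (-v) = 0 by simp [det]; ring, hr0] at h1
    obtain ⟨e1, e2⟩ := hk _ _ h1
    have e1' : w = v := by rwa [← sub_eq_add_neg, sub_eq_zero] at e1
    subst e1'
    have : y + -z = 0 := by
      have : det w (-w) = 0 := by simp [det]; ring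
      rwa [this, sub_zero] at e2
    exact ⟨rfl, (by rwa [← sub_eq_add_neg, sub_eq_zero] at this : y = z).symm⟩
  have hmem : ∀ v z, rr a b c v z ∈ R := fun v z =>
    R.mul_mem (R.mul_mem (hP a ha _) (hP b hb _)) (hP c hcR _)
  haveI : Finite R := Nat.finite_of_card_ne_zero (by rw [hR]; norm_num)
  let φ : V × ZMod 3 → R := fun p => ⟨rr a b c p.1 p.2, hmem _ _⟩
  have hbij : Function.Bijective φ := by
    rw [Nat.bijective_iff_injective_and_card]
    refine ⟨fun p q h => ?_, ?_⟩
    · obtain ⟨e1, e2⟩ := hinj _ _ _ _ (congrArg Subtype.val h)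
      exact Prod.ext e1 e2
    · rw [hR]; simp
  refine ⟨⟨rr a b c, law, hinj, hmem, fun x hx => ?_⟩, ?_, ?_⟩
  · obtain ⟨p, hp⟩ := hbij.2 ⟨x, hx⟩
    exact ⟨p.1, p.2, congrArg Subtype.val hp⟩
  · simp [rr, P, ZMod.val_one]
  · simp [rr, P, ZMod.val_one]

/-- The action of `X` on a normal subgroup with coordinates. -/
theorem Base.exists_action (B : Base R) [hn : R.Normal] :
    ∃ (L : X → V → V) (D : X → ZMod 3),
      (∀ g v z, ∃ y, g * B.r v z * g⁻¹ = B.r (L g v) y) ∧
      (∀ g z, g * B.r 0 z * g⁻¹ = B.r 0 (D g * z)) ∧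
      (∀ g v w, L g (v + w) = L g v + L g w) ∧
      (∀ g v w, det (L g v) (L g w) = D g * det v w) ∧
      (∀ g h v, L (g * h) v = L g (L h v)) ∧ (∀ g h, D (g * h) = D g * D h) ∧
      (∀ g, D g ≠ 0) := by
  classical
  have h0 : ∀ g v z, ∃ w y, g * B.r v z * g⁻¹ = B.r w y := fun g v z => by
    obtain ⟨w, y, h⟩ := B.surj _ (hn.conj_mem _ (B.mem v z) g)
    exact ⟨w, y, h.symm⟩
  have hcen : ∀ g z, ∃ y, g * B.r 0 z * g⁻¹ = B.r 0 y := fun g z => by
    obtain ⟨w, y, h⟩ := h0 g 0 z
    have hw : w = 0 := B.central_iff (z := y) fun x hx => by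
      rw [← h]
      have hx' : g⁻¹ * x * g ∈ R := by simpa using hn.conj_mem x hx g⁻¹
      have e := (B.commute_zero z hx').eq
      show g * B.r 0 z * g⁻¹ * x = x * (g * B.r 0 z * g⁻¹)
      calc g * B.r 0 z * g⁻¹ * x = g * (B.r 0 z * (g⁻¹ * x * g)) * g⁻¹ := by group
        _ = _ := by rw [e]; group
    exact ⟨y, by rw [h, hw]⟩
  choose C hC using hcen
  choose L β hL using fun g v => h0 g v 0
  have hrz : ∀ v z, B.r v z = B.r v 0 * B.r 0 z := fun v z => by
    rw [B.law]; simp [det]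
  have hconj : ∀ g v z, g * B.r v z * g⁻¹ = B.r (L g v) (β g v + C g z) := fun g v z => by
    rw [hrz v z, show g * (B.r v 0 * B.r 0 z) * g⁻¹ = (g * B.r v 0 * g⁻¹) * (g * B.r 0 z * g⁻¹)
      by group, hL, hC, B.law]
    simp [det]
  have hCadd : ∀ g x y, C g (x + y) = C g x + C g y := fun g x y => by
    have h : B.r 0 (x + y) = B.r 0 x * B.r 0 y := by rw [B.law]; simp [det]
    have h2 := hC g (x + y)
    rw [h, show g * (B.r 0 x * B.r 0 y) * g⁻¹ = (g * B.r 0 x * g⁻¹) * (g * B.r 0 y * g⁻¹)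
      by group, hC, hC, B.law] at h2
    simpa [det] using (B.inj _ _ _ _ h2).2.symm
  have hC0 : ∀ g, C g 0 = 0 := fun g => by simpa using hCadd g 0 0
  have hClin : ∀ g z, C g z = C g 1 * z := fun g z => by
    rcases (by revert z; decide : z = 0 ∨ z = 1 ∨ z = 1 + 1) with rfl | rfl | rfl
    · simp [hC0]
    · simp
    · rw [hCadd]; ring
  have hLadd : ∀ g v w, L g (v + w) = L g v + L g w ∧
      β g (v + w) + C g (-det v w) = β g v + β g w - det (L g v) (L g w) := fun g v w => by
    have h1 : g * (B.r v 0 * B.r w 0) * g⁻¹ = (g * B.r v 0 * g⁻¹) * (g * B.r w 0 * g⁻¹) := by group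
    rw [B.law, hconj, hL, hL, B.law] at h1
    have h2 := B.inj _ _ _ _ h1
    exact ⟨h2.1, by simpa using h2.2⟩
  have hdet : ∀ g v w, det (L g v) (L g w) = C g 1 * det v w := fun g v w => by
    have h1 := (hLadd g v w).2
    have h2 := (hLadd g w v).2
    rw [add_comm w v, hClin] at h2
    rw [hClin] at h1
    have hs : det (L g w) (L g v) = -det (L g v) (L g w) := by simp [det]; ring
    have hs' : det w v = -det v w := by simp [det]; ring
    rw [hs, hs'] at h2
    have h3 : 2 * det (L g v) (L g w) = 2 * (C g 1 * det v w) := by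
      linear_combination h1 - h2
    exact mul_left_cancel₀ (by decide) h3
  refine ⟨L, fun g => C g 1, fun g v z => ⟨_, hconj g v z⟩, fun g z => by rw [hC, hClin],
    fun g v w => (hLadd g v w).1, hdet, fun g h v => ?_, fun g h => ?_, fun g h0' => ?_⟩
  · have h1 := hL (g * h) v
    rw [show g * h * B.r v 0 * (g * h)⁻¹ = g * (h * B.r v 0 * h⁻¹) * g⁻¹ by group, hL, hconj] at h1
    exact (B.inj _ _ _ _ h1).1.symm
  · have h1 := hC (g * h) 1
    rw [show g * h * B.r 0 1 * (g * h)⁻¹ = g * (h * B.r 0 1 * h⁻¹) * g⁻¹ by group, hC, hC] at h1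
    show C (g * h) 1 = C g 1 * C h 1
    rw [← hClin]
    exact (B.inj _ _ _ _ h1).2.symm
  · have h1 := hC g 1
    rw [show C g 1 = 0 from h0', B.r_zero, conj_eq_one_iff, ← B.r_zero] at h1
    exact one_ne_zero (B.inj _ _ _ _ h1).2

theorem det_scalar_trivial (ψ : SL →* ZMod 3) (hψ : ∀ s, ψ s ≠ 0) (s : SL) : ψ s = 1 := by
  obtain ⟨a, b, rfl⟩ := mul_sq_sq s
  have key : ∀ x : ZMod 3, x ≠ 0 → x ^ 2 = 1 := by decide
  rw [map_mul, map_pow, map_pow, key _ (hψ a), key _ (hψ b), mul_one]

end CfsgLib.Recog45.ExtraThree
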