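import Mathlib
import Cfsg.Agent.Lib.Recog45.ExtraThreeExtension

/-!
The hypotheses `O₃(X) = 3^{1+2}_+`, `X/O₃(X) ≅ SL₂(3)`, `O₂(X) = 1`, an elementary abelian
subgroup of order 27, give a split extension with the natural action (helper45).
-/

set_option autoImplicit false

namespace CfsgLib.Recog45.ExtraThree

open CfsgLib.Large.SLTwoThree CfsgLib.Recog45.HeisenbergFrame
open scoped commutatorElement

variable {X : Type*} [Group X]

theorem neg_one_sq : (-1 : SL) ^ 2 = 1 := by simp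

theorem neg_one_ne_one : (-1 : SL) ≠ 1 := by decide +kernel

theorem act_neg_one : ∀ v : V, act (-1) v = -v := by decide +kernel

theorem zmod_three_cases : ∀ z : ZMod 3, z = 0 ∨ z = 1 ∨ z = 1 + 1 := by decide

theorem zmod_three_triple : ∀ z d : ZMod 3, z + d + d + d = z := by decide

theorem zmod_three_double : ∀ y : ZMod 3, y + y = -y := by decide

theorem zmod_three_eq_neg : ∀ y : ZMod 3, y = -y → y = 0 := by decide

theorem plane_eq_neg : ∀ v : V, -v = v → v = 0 := by decide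

theorem plane_triple : ∀ v : V, v + v + v = 0 := by decide

/-- matrix of a linear map of the plane -/
def mat (f : V → V) : Matrix (Fin 2) (Fin 2) (ZMod 3) :=
  !![(f (1, 0)).1, (f (0, 1)).1; (f (1, 0)).2, (f (0, 1)).2]

theorem exists_frame [Finite X] (hR : Cfsg.IsExtraspecial 3 (Cfsg.pCore 3 X))
    (hRcard : Nat.card (Cfsg.pCore 3 X) = 27) (hRexp : ∀ r ∈ Cfsg.pCore 3 X, r ^ 3 = 1)
    [hn : (Cfsg.pCore 3 X).Normal] (e : X ⧸ Cfsg.pCore 3 X ≃* SL)
    (hO2 : Cfsg.pCore 2 X = ⊥)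
    (hE : ∃ E : Subgroup X, IsMulCommutative E ∧ (∀ a ∈ E, a ^ 3 = 1) ∧ Nat.card E = 27) :
    Nonempty (Frame X) := by
  classical
  haveI : Fact (Nat.Prime 3) := ⟨Nat.prime_three⟩
  haveI : Fact (Nat.Prime 2) := ⟨Nat.prime_two⟩
  set R := Cfsg.pCore 3 X with hRdef
  obtain ⟨⟨-, -, hcomm⟩, hzc⟩ := hR
  have hclass : ∀ x ∈ R, ∀ y ∈ R, ∀ u ∈ R, Commute (x * y * x⁻¹ * y⁻¹) u := by
    intro x hx y hy u hu
    have h : ⁅(⟨x, hx⟩ : R), (⟨y, hy⟩ : R)⁆ ∈ Subgroup.center R := by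
      rw [← hcomm, commutator_def]
      exact Subgroup.commutator_mem_commutator (Subgroup.mem_top _) (Subgroup.mem_top _)
    have := congrArg Subtype.val (Subgroup.mem_center_iff.1 h ⟨u, hu⟩)
    simp only [commutatorElement_def, Subgroup.coe_mul, Subgroup.coe_inv] at this
    exact this.symm
  obtain ⟨a₀, ha₀, b₀, hb₀, hab₀⟩ : ∃ a ∈ R, ∃ b ∈ R, a * b * a⁻¹ * b⁻¹ ≠ 1 := by
    by_contra h
    push Not at h
    have htop : Subgroup.center R = ⊤ := by
      rw [eq_top_iff]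
      rintro ⟨x, hx⟩ -
      rw [Subgroup.mem_center_iff]
      rintro ⟨y, hy⟩
      apply Subtype.ext
      exact commutatorElement_eq_one_iff_mul_comm.1 (h y hy x hx)
    rw [htop, Subgroup.card_top, hRcard] at hzc
    omega
  obtain ⟨B₀, -, -⟩ := exists_base hRcard hRexp hclass ha₀ hb₀ hab₀
  -- the quotient
  let π : X →* SL := e.toMonoidHom.comp (QuotientGroup.mk' R)
  have hπker : ∀ x, π x = 1 ↔ x ∈ R := fun x => by
    simp [π, QuotientGroup.eq_one_iff]
  have hπsurj : Function.Surjective π :=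
    e.surjective.comp (QuotientGroup.mk'_surjective R)
  -- the centralizer of `R`
  have hCR : ∀ g : X, (∀ r ∈ R, Commute g r) → g ∈ R := by
    let C : Subgroup X := Subgroup.centralizer (R : Set X)
    haveI : C.Normal := by
      refine ⟨fun c hc g => ?_⟩
      rw [Subgroup.mem_centralizer_iff] at hc ⊢
      intro r hr
      have hr' : g⁻¹ * r * g ∈ R := by simpa using hn.conj_mem r hr g⁻¹
      calc r * (g * c * g⁻¹) = g * ((g⁻¹ * r * g) * c) * g⁻¹ := by group
        _ = _ := by rw [hc _ hr']; group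
    intro g hg
    by_contra hgR
    have hgC : g ∈ C := Subgroup.mem_centralizer_iff.2 fun r hr => (hg r hr).eq.symm
    -- an element of `C` mapping to `-1`
    obtain ⟨c, hcC, hc⟩ : ∃ c ∈ C, π c = -1 := by
      obtain ⟨i, hi⟩ := hπsurj gI
      rcases neg_one_of_ne_one (π g) (fun h => hgR ((hπker g).1 h)) with h | h | h | h
      · exact ⟨g, hgC, h⟩
      · exact ⟨g ^ 2, C.pow_mem hgC 2, by rw [map_pow, h]⟩
      · exact ⟨g ^ 3, C.pow_mem hgC 3, by rw [map_pow, h]⟩
      · refine ⟨(g * i * g⁻¹ * i⁻¹) ^ 2, C.pow_mem ?_ 2, by simp only [map_pow, map_mul, map_inv, hi, h]⟩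
        rw [show g * i * g⁻¹ * i⁻¹ = g * (i * g⁻¹ * i⁻¹) by group]
        exact C.mul_mem hgC ((inferInstance : C.Normal).conj_mem _ (C.inv_mem hgC) i)
    have hc2 : c ^ 2 ∈ R := (hπker _).1 (by rw [map_pow, hc, neg_one_sq])
    set t := c ^ 3 with htdef
    have ht2 : t ^ 2 = 1 := by
      rw [htdef, ← pow_mul, show (3 * 2 : ℕ) = 2 * 3 from rfl, pow_mul, hRexp _ hc2]
    have htC : t ∈ C := C.pow_mem hcC 3
    have htπ : π t = -1 := by rw [map_pow, hc, pow_succ, neg_one_sq, one_mul]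
    have htc : ∀ x : X, x * t * x⁻¹ = t := by
      intro x
      set ρ := x * t * x⁻¹ * t⁻¹ with hρ
      have hρR : ρ ∈ R := (hπker _).1 (by
        rw [map_mul, map_mul, map_mul, map_inv, map_inv, htπ]; simp)
      have hρt : Commute ρ t := Subgroup.mem_centralizer_iff.1 htC ρ hρR
      have e1 : x * t * x⁻¹ = ρ * t := by rw [hρ]; group
      have e2 : (x * t * x⁻¹) ^ 2 = 1 := by rw [conj_pow, ht2]; group
      rw [e1, hρt.mul_pow, ht2, mul_one] at e2
      have : ρ = 1 := by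
        have h3 := hRexp ρ hρR
        rwa [pow_succ, e2, one_mul] at h3
      rw [e1, this, one_mul]
    haveI : (Subgroup.zpowers t).Normal := by
      refine ⟨fun u hu x => ?_⟩
      obtain ⟨k, rfl⟩ := Subgroup.mem_zpowers_iff.1 hu
      rw [← conj_zpow, htc]
      exact Subgroup.zpow_mem _ (Subgroup.mem_zpowers t) k
    have hp : IsPGroup 2 (Subgroup.zpowers t) := by
      rintro ⟨u, hu⟩
      obtain ⟨k, rfl⟩ := Subgroup.mem_zpowers_iff.1 hu
      refine ⟨1, Subtype.ext ?_⟩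
      rw [SubmonoidClass.coe_pow]
      show (t ^ k) ^ (2 ^ 1) = 1
      rw [pow_one, ← zpow_natCast, ← zpow_mul, mul_comm, zpow_mul, zpow_natCast, ht2, one_zpow]
    have : t ∈ Cfsg.pCore 2 X :=
      CfsgLib.PCore.le_pCore inferInstance hp (Subgroup.mem_zpowers t)
    rw [hO2, Subgroup.mem_bot] at this
    rw [this, map_one] at htπ
    exact neg_one_ne_one htπ.symm
  -- coordinates give a homomorphism onto `SL₂(3)` with kernel `R`
  have hM : ∀ B : Base R, ∃ M : X →* SL, (∀ g v z, ∃ y, g * B.r v z * g⁻¹ = B.r (act (M g) v) y) ∧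
      (∀ g z, g * B.r 0 z * g⁻¹ = B.r 0 z) ∧ (∀ g, M g = 1 ↔ g ∈ R) ∧ Function.Surjective M := by
    intro B
    obtain ⟨L, D, hL, hD, hLadd, hdet, hLmul, hDmul, hD0⟩ := B.exists_action
    have hD1' : D 1 = 1 := by
      have h := hD 1 1
      rw [one_mul, inv_one, mul_one] at h
      simpa using (B.inj _ _ _ _ h).2.symm
    have hDR : ∀ g ∈ R, D g = 1 := fun g hg => by
      have h := hD g 1
      rw [← ((B.commute_zero 1 hg).eq), mul_inv_cancel_right] at h
      simpa using (B.inj _ _ _ _ h).2.symm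
    let δ : X →* ZMod 3 := { toFun := D, map_one' := hD1', map_mul' := hDmul }
    have hD1 : ∀ g, D g = 1 := by
      let ψ : X ⧸ R →* ZMod 3 := QuotientGroup.lift R δ fun g hg => hDR g hg
      intro g
      have h := det_scalar_trivial (ψ.comp e.symm.toMonoidHom)
        (fun s => by
          obtain ⟨y, hy⟩ := QuotientGroup.mk_surjective (e.symm s)
          show ψ (e.symm s) ≠ 0
          rw [← hy]
          exact hD0 y)
        (e (QuotientGroup.mk g))
      simp only [MonoidHom.coe_comp, MulEquiv.coe_toMonoidHom, Function.comp_apply,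
        MulEquiv.symm_apply_apply] at h
      exact h
    have hLlin : ∀ g v, L g v =
        ((mat (L g)) 0 0 * v.1 + (mat (L g)) 0 1 * v.2,
          (mat (L g)) 1 0 * v.1 + (mat (L g)) 1 1 * v.2) := by
      intro g v
      have h00 : L g 0 = 0 := by simpa using hLadd g 0 0
      have h3 := zmod_three_cases
      have h1 : ∀ z, L g (z, 0) = (z * (L g (1, 0)).1, z * (L g (1, 0)).2) := fun z => by
        rcases h3 z with rfl | rfl | rfl
        · rw [show ((0, 0) : V) = 0 from rfl, h00]; ext <;> simp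
        · simp
        · rw [show ((1 + 1, 0) : V) = (1, 0) + (1, 0) by simp, hLadd]
          ext <;> simp <;> ring
      have h2 : ∀ z, L g (0, z) = (z * (L g (0, 1)).1, z * (L g (0, 1)).2) := fun z => by
        rcases h3 z with rfl | rfl | rfl
        · rw [show ((0, 0) : V) = 0 from rfl, h00]; ext <;> simp
        · simp
        · rw [show ((0, 1 + 1) : V) = (0, 1) + (0, 1) by simp, hLadd]
          ext <;> simp <;> ring
      rw [show L g v = L g (v.1, 0) + L g (0, v.2) by rw [← hLadd]; simp, h1, h2]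
      ext <;> simp [mat] <;> ring
    have hdet1 : ∀ g, (mat (L g)).det = 1 := by
      intro g
      have h := hdet g (1, 0) (0, 1)
      rw [hD1] at h
      simp only [det, mat, Matrix.det_fin_two] at h ⊢
      simp at h ⊢
      linear_combination h
    let Mf : X → SL := fun g => ⟨mat (L g), hdet1 g⟩
    have hact : ∀ g v, act (Mf g) v = L g v := fun g v => (hLlin g v).symm
    let M : X →* SL := MonoidHom.mk' Mf fun g h => by
      have h0 : ∀ v, act ((Mf g * Mf h)⁻¹ * Mf (g * h)) v = v := fun v => by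
        rw [act_mul, hact, hLmul, ← hact g, ← hact h, ← act_mul (Mf g), ← act_mul,
          inv_mul_cancel, act_one]
      exact (inv_mul_eq_one.1 (act_injective h0)).symm
    have hker : ∀ g, M g = 1 ↔ g ∈ R := by
      have hconjR : ∀ g ∈ R, M g = 1 := fun g hg => act_injective fun v => by
        obtain ⟨w, y, rfl⟩ := B.surj g hg
        obtain ⟨y', hy'⟩ := hL (B.r w y) v 0
        rw [B.conj_r] at hy'
        show act (Mf (B.r w y)) v = v
        rw [hact]
        exact (B.inj _ _ _ _ hy').1.symm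
      refine fun g => ⟨fun hg => ?_, hconjR g⟩
      haveI : M.ker.Normal := inferInstance
      have hp : IsPGroup 3 M.ker := by
        rintro ⟨k, hk⟩
        refine ⟨2, Subtype.ext ?_⟩
        have hk' : M k = 1 := hk
        have hfix : ∀ v, L k v = v := fun v => by
          rw [← hact, show Mf k = 1 from hk', act_one]
        have h3 : k ^ 3 ∈ R := by
          refine hCR _ fun r hr => ?_
          obtain ⟨v, z, rfl⟩ := B.surj r hr
          obtain ⟨y, hy⟩ := hL k v z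
          rw [hfix] at hy
          obtain ⟨d, rfl⟩ : ∃ d, y = z + d := ⟨y - z, by ring⟩
          have hrz : ∀ x d, B.r v (x + d) = B.r v x * B.r 0 d := fun x d => by
            rw [B.law]; simp [det]
          have hstep : ∀ x, k * B.r v x * k⁻¹ = B.r v (x + d) := fun x => by
            obtain ⟨x', rfl⟩ : ∃ x', x = z + x' := ⟨x - z, by ring⟩
            rw [hrz z x', show k * (B.r v z * B.r 0 x') * k⁻¹ =
              (k * B.r v z * k⁻¹) * (k * B.r 0 x' * k⁻¹) by group, hy, hD, hD1, one_mul, ← hrz]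
            congr 1
            ring
          have e : k ^ 3 * B.r v z * (k ^ 3)⁻¹ = B.r v z := by
            rw [show k ^ 3 * B.r v z * (k ^ 3)⁻¹ =
              k * (k * (k * B.r v z * k⁻¹) * k⁻¹) * k⁻¹ by
                simp only [pow_succ, pow_zero, one_mul, mul_inv_rev, mul_assoc], hstep, hstep,
              hstep, zmod_three_triple]
          exact mul_inv_eq_iff_eq_mul.1 e
        show k ^ (3 ^ 2) = 1
        rw [show 3 ^ 2 = 3 * 3 from rfl, pow_mul, hRexp _ h3]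
      exact CfsgLib.PCore.le_pCore inferInstance hp hg
    refine ⟨M, fun g v z => ?_, fun g z => by rw [hD, hD1, one_mul], hker, ?_⟩
    · show ∃ y, _ = B.r (act (Mf g) v) y
      rw [hact]
      exact hL g v z
    · let Mq : X ⧸ R →* SL := QuotientGroup.lift R M fun g hg => (hker g).2 hg
      have hinj : Function.Injective Mq := by
        rw [← MonoidHom.ker_eq_bot_iff, eq_bot_iff]
        intro q hq
        obtain ⟨g, rfl⟩ := QuotientGroup.mk_surjective q
        rw [Subgroup.mem_bot, QuotientGroup.eq_one_iff]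
        exact (hker g).1 hq
      have hb := (Nat.bijective_iff_injective_and_card Mq).2 ⟨hinj, Nat.card_congr e.toEquiv⟩
      intro s
      obtain ⟨q, hq⟩ := hb.2 s
      obtain ⟨g, rfl⟩ := QuotientGroup.mk_surjective q
      exact ⟨g, hq⟩
  -- adjusted coordinates
  obtain ⟨M₀, hL₀, hZ₀, hker₀, hsurj₀⟩ := hM B₀
  obtain ⟨c, hc⟩ := hsurj₀ (-1)
  have hc2 : c ^ 2 ∈ R := (hker₀ _).1 (by rw [map_pow, hc, neg_one_sq])
  set t := c ^ 3 with htdef
  have ht2 : t ^ 2 = 1 := by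
    rw [htdef, ← pow_mul, show (3 * 2 : ℕ) = 2 * 3 from rfl, pow_mul, hRexp _ hc2]
  have htM : M₀ t = -1 := by rw [map_pow, hc, pow_succ, neg_one_sq, one_mul]
  have hadj : ∀ v : V, ∃ l, t * B₀.r v l * t⁻¹ = (B₀.r v l)⁻¹ := fun v => by
    obtain ⟨y, hy⟩ := hL₀ t v 0
    rw [htM, act_neg_one] at hy
    refine ⟨y, ?_⟩
    have e1 : B₀.r v y = B₀.r v 0 * B₀.r 0 y := by rw [B₀.law]; simp [det]
    rw [e1, show t * (B₀.r v 0 * B₀.r 0 y) * t⁻¹ = (t * B₀.r v 0 * t⁻¹) * (t * B₀.r 0 y * t⁻¹)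
      by group, hy, hZ₀, ← e1, B₀.r_inv, B₀.law]
    congr 1
    · simp
    · simp only [det, Prod.fst_zero, Prod.snd_zero, mul_zero, sub_zero]
      simpa using zmod_three_double y
  obtain ⟨la, hla⟩ := hadj (1, 0)
  obtain ⟨lb, hlb⟩ := hadj (0, 1)
  have hne : B₀.r (1, 0) la * B₀.r (0, 1) lb * (B₀.r (1, 0) la)⁻¹ * (B₀.r (0, 1) lb)⁻¹ ≠ 1 := by
    rw [B₀.conj_r, Ne, mul_inv_eq_one]
    intro h
    have := (B₀.inj _ _ _ _ h).2
    simp [det] at this
  obtain ⟨B, hBa, hBb⟩ := exists_base hRcard hRexp hclass (B₀.mem _ _) (B₀.mem _ _) hne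
  obtain ⟨M, hL, hZ, hker, hsurj⟩ := hM B
  have hB0 : ∀ v z, B.r v z = B.r v 0 * B.r 0 z := fun v z => by rw [B.law]; simp [det]
  have hinv : ∀ v z, t * B.r v z * t⁻¹ = B.r (-v) z := by
    intro v z
    have ha : t * B.r (1, 0) 0 * t⁻¹ = B.r (-(1, 0)) 0 := by
      rw [hBa, hla, ← hBa, B.r_inv, neg_zero]
    have hb : t * B.r (0, 1) 0 * t⁻¹ = B.r (-(0, 1)) 0 := by
      rw [hBb, hlb, ← hBb, B.r_inv, neg_zero]
    have hmul : ∀ v z w y, t * B.r v z * t⁻¹ = B.r (-v) z → t * B.r w y * t⁻¹ = B.r (-w) y →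
        t * B.r (v + w) (z + y - det v w) * t⁻¹ = B.r (-(v + w)) (z + y - det v w) := by
      intro v z w y h1 h2
      rw [← B.law, show t * (B.r v z * B.r w y) * t⁻¹ = (t * B.r v z * t⁻¹) * (t * B.r w y * t⁻¹)
        by group, h1, h2, B.law, neg_add]
      congr 1
      simp [det]
    obtain ⟨i, j, y, rfl, hz⟩ : ∃ (i j : ℕ) (y : ZMod 3), v = ((i : ZMod 3), (j : ZMod 3)) ∧
        z = y - (i : ZMod 3) * (j : ZMod 3) :=
      ⟨v.1.val, v.2.val, z + v.1 * v.2, by simp, by simp⟩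
    have hi : ∀ i : ℕ, t * B.r ((i : ZMod 3), 0) 0 * t⁻¹ = B.r (-((i : ZMod 3), 0)) 0 := by
      intro i
      induction i with
      | zero => rw [Nat.cast_zero, show ((0, 0) : V) = 0 from rfl, neg_zero, B.r_zero]; group
      | succ i ih => simpa [det] using hmul _ 0 _ 0 ih ha
    have hj : ∀ j : ℕ, t * B.r (0, (j : ZMod 3)) 0 * t⁻¹ = B.r (-(0, (j : ZMod 3))) 0 := by
      intro j
      induction j with
      | zero => rw [Nat.cast_zero, show ((0, 0) : V) = 0 from rfl, neg_zero, B.r_zero]; group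
      | succ j ih => simpa [det] using hmul _ 0 _ 0 ih hb
    have hij := hmul _ 0 _ 0 (hi i) (hj j)
    have h0 := hmul _ _ 0 y hij (by rw [hZ, neg_zero])
    simpa [det, hz, sub_eq_add_neg, add_comm] using h0
  have htM' : M t = -1 := by
    have h : ∀ v, act ((-1)⁻¹ * M t) v = v := fun v => by
      obtain ⟨y, hy⟩ := hL t v 0
      rw [hinv] at hy
      rw [act_mul, ← (B.inj _ _ _ _ hy).1, show ((-1 : SL))⁻¹ = -1 by decide +kernel, act_neg_one,
        neg_neg]
    exact (inv_mul_eq_one.1 (act_injective h)).symm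
  have htt : t⁻¹ = t := inv_eq_iff_mul_eq_one.2 (by rw [← pow_two, ht2])
  -- representatives commuting with `t`
  have hnrep : ∀ x : X, ∃ w, Commute (B.r w 0 * x) t := by
    intro x
    set ρ := x * t * x⁻¹ * t with hρ
    have hρR : ρ ∈ R := (hker _).1 (by
      rw [map_mul, map_mul, map_mul, map_inv, htM']; simp)
    obtain ⟨w, z, hw⟩ := B.surj ρ hρR
    have h1 : t * ρ * t⁻¹ = ρ⁻¹ := by
      have htsq : t * t = 1 := by rw [← pow_two, ht2]
      rw [hρ, htt]; simp [mul_assoc, htt, htsq]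
    rw [← hw, hinv, B.r_inv] at h1
    have hz : z = 0 := zmod_three_eq_neg z (B.inj _ _ _ _ h1).2
    subst hz
    refine ⟨w, ?_⟩
    have h2 : (B.r w 0 * x) * t * (B.r w 0 * x)⁻¹ = t := by
      have hx : x * t * x⁻¹ = B.r w 0 * t := by
        rw [hw, hρ, mul_assoc _ t t, ← pow_two, ht2, mul_one]
      calc (B.r w 0 * x) * t * (B.r w 0 * x)⁻¹ = B.r w 0 * (x * t * x⁻¹) * (B.r w 0)⁻¹ := by group
        _ = B.r w 0 * B.r w 0 * (t * (B.r w 0)⁻¹ * t⁻¹) * t := by rw [hx]; group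
        _ = t := by
          rw [B.r_inv, hinv, neg_neg, neg_zero, B.law, B.law]
          rw [plane_triple w, show (0 : ZMod 3) + 0 - det w w + 0 - det (w + w) w = 0 by simp [det]; ring,
            B.r_zero, one_mul]
    exact mul_inv_eq_iff_eq_mul.1 h2
  have hNconj : ∀ n, Commute n t → ∀ v z, n * B.r v z * n⁻¹ = B.r (act (M n) v) z := by
    intro n hn v z
    obtain ⟨y, hy⟩ := hL n v 0
    have h1 : t * (n * B.r v 0 * n⁻¹) * t⁻¹ = (n * B.r v 0 * n⁻¹)⁻¹ := by
      rw [show t * (n * B.r v 0 * n⁻¹) * t⁻¹ = (t * n) * B.r v 0 * (t * n)⁻¹ by group, ← hn.eq,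
        show (n * t) * B.r v 0 * (n * t)⁻¹ = n * (t * B.r v 0 * t⁻¹) * n⁻¹ by group, hinv]
      conv_rhs => rw [conj_inv, B.r_inv, neg_zero]
    rw [hy, hinv, B.r_inv] at h1
    have hy0 : y = 0 := zmod_three_eq_neg y (B.inj _ _ _ _ h1).2
    rw [hB0 v z, show n * (B.r v 0 * B.r 0 z) * n⁻¹ = (n * B.r v 0 * n⁻¹) * (n * B.r 0 z * n⁻¹)
      by group, hy, hy0, hZ, ← hB0]
  have hNR : ∀ n, Commute n t → n ∈ R → ∃ z, n = B.r 0 z := by
    intro n hn hnR
    obtain ⟨v, z, rfl⟩ := B.surj n hnR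
    have h1 : t * B.r v z * t⁻¹ = B.r v z := by rw [← hn.eq]; group
    rw [hinv] at h1
    have h2 := (B.inj _ _ _ _ h1).1
    refine ⟨z, ?_⟩
    rw [plane_eq_neg v h2]
  have hcz : ∀ z x, Commute (B.r 0 z) x := fun z x => (mul_inv_eq_iff_eq_mul.1 (hZ x z)).symm
  -- an element of order three
  obtain ⟨W₁, hW₁t, hW₁3, hW₁⟩ : ∃ n, Commute n t ∧ n ^ 3 = 1 ∧ M n ≠ 1 := by
    obtain ⟨E, hEc, hE3, hEcard⟩ := hE
    have hEcomm : ∀ a ∈ E, ∀ b ∈ E, a * b = b * a := fun a ha b hb =>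
      congrArg Subtype.val (hEc.is_comm.comm (⟨a, ha⟩ : E) ⟨b, hb⟩)
    obtain ⟨x, hxE, hx1⟩ : ∃ x ∈ E, M x ≠ 1 := by
      by_contra h
      push Not at h
      have hER : E = R := Subgroup.eq_of_le_of_card_ge (fun x hx => (hker x).1 (h x hx))
        (by rw [hEcard, hRcard])
      exact hab₀ (by
        rw [hEcomm a₀ (hER ▸ ha₀) b₀ (hER ▸ hb₀)]; group)
    obtain ⟨ρ, hρE, v, hv, z, hρ⟩ : ∃ ρ ∈ E, ∃ v, v ≠ 0 ∧ ∃ z, ρ = B.r v z := by
      by_contra h
      push Not at h
      have key : ∀ y ∈ E, ∃ (i : Fin 3) (z : ZMod 3), y = x ^ (i : ℕ) * B.r 0 z := by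
        intro y hy
        have hcm : M x * M y = M y * M x := by rw [← map_mul, ← map_mul, hEcomm x hxE y hy]
        obtain ⟨i, hi⟩ : ∃ i : Fin 3, M y = (M x) ^ (i : ℕ) := by
          rcases commuting_three (M x) (M y) hx1 (by rw [← map_pow, hE3 x hxE, map_one])
            (by rw [← map_pow, hE3 y hy, map_one]) hcm with h' | h' | h'
          · exact ⟨0, by simpa using h'⟩
          · exact ⟨1, by simpa using h'⟩
          · exact ⟨2, by simpa [pow_two] using h'⟩
        have hmem : (x ^ (i : ℕ))⁻¹ * y ∈ E := E.mul_mem (E.inv_mem (E.pow_mem hxE _)) hy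
        obtain ⟨v, z, hvz⟩ := B.surj ((x ^ (i : ℕ))⁻¹ * y)
          ((hker _).1 (by rw [map_mul, map_inv, map_pow, hi, inv_mul_cancel]))
        have hv0 : v = 0 := by
          by_contra hv0
          exact h _ hmem v hv0 z hvz.symm
        exact ⟨i, z, by rw [← hv0, hvz]; group⟩
      choose fi fz hf using key
      have hinj : Function.Injective fun y : E => (fi y.1 y.2, fz y.1 y.2) := by
        intro p q hpq
        simp only [Prod.mk.injEq] at hpq
        exact Subtype.ext (by rw [hf p.1 p.2, hf q.1 q.2, hpq.1, hpq.2])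
      have := Nat.card_le_card_of_injective _ hinj
      rw [hEcard] at this
      simp at this
    obtain ⟨w, hw⟩ := hnrep x
    set n := B.r w 0 * x with hndef
    have hMn : M n = M x := by
      rw [hndef, map_mul, (hker _).2 (B.mem _ _), one_mul]
    have hxn : x = B.r (-w) 0 * n := by
      rw [hndef, ← mul_assoc, B.law]; simp [det, B.r_zero, mul_comm]
    have hfixv : x * ρ * x⁻¹ = ρ := by rw [hEcomm x hxE ρ hρE]; group
    rw [hρ, hxn, show B.r (-w) 0 * n * B.r v z * (B.r (-w) 0 * n)⁻¹ =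
      B.r (-w) 0 * (n * B.r v z * n⁻¹) * (B.r (-w) 0)⁻¹ by group, hNconj n hw, B.conj_r] at hfixv
    obtain ⟨h1, h2⟩ := B.inj _ _ _ _ hfixv
    rw [h1] at h2
    have hd : det (-w) v = 0 := by simpa using h2
    have hfixw : act (M n) (-w) = -w := act_fix_multiple _ v _ hv h1 hd
    have hcomm' : Commute (B.r (-w) 0) n := by
      have := hNconj n hw (-w) 0
      rw [hfixw] at this
      exact (mul_inv_eq_iff_eq_mul.1 this).symm
    refine ⟨n, hw, ?_, hMn ▸ hx1⟩
    have h3 := hE3 x hxE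
    rwa [hxn, hcomm'.mul_pow, hRexp _ (B.mem _ _), one_mul] at h3
  obtain ⟨W, hWt, hW3, hMW⟩ : ∃ n, Commute n t ∧ n ^ 3 = 1 ∧ M n = gW := by
    obtain ⟨s, hs⟩ := order_three_conj (M W₁) hW₁ (by rw [← map_pow, hW₁3, map_one])
    obtain ⟨x, rfl⟩ := hsurj s
    obtain ⟨w, hw⟩ := hnrep x
    have hMs : M (B.r w 0 * x) = M x := by rw [map_mul, (hker _).2 (B.mem _ _), one_mul]
    rcases hs with h | h
    · refine ⟨(B.r w 0 * x) * W₁ * (B.r w 0 * x)⁻¹, (hw.mul_left hW₁t).mul_left hw.inv_left, ?_, ?_⟩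
      · rw [conj_pow, hW₁3, mul_one, mul_inv_cancel]
      · rw [map_mul, map_mul, map_inv, hMs, h]
    · refine ⟨(B.r w 0 * x) * (W₁ * W₁) * (B.r w 0 * x)⁻¹,
        (hw.mul_left (hW₁t.mul_left hW₁t)).mul_left hw.inv_left, ?_, ?_⟩
      · rw [conj_pow, (Commute.refl W₁).mul_pow, hW₁3, mul_one, mul_one, mul_inv_cancel]
      · rw [map_mul, map_mul, map_inv, hMs, map_mul, h]
  -- lifts of the quaternion group
  have hlift : ∀ s : SL, s ^ 4 = 1 → ∃ n, Commute n t ∧ n ^ 4 = 1 ∧ M n = s := by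
    intro s hs
    obtain ⟨x, rfl⟩ := hsurj s
    obtain ⟨w, hw⟩ := hnrep x
    have hMn : M (B.r w 0 * x) = M x := by rw [map_mul, (hker _).2 (B.mem _ _), one_mul]
    set n := B.r w 0 * x with hndef
    have hn4 : n ^ 4 ∈ R := (hker _).1 (by rw [map_pow, hMn, hs])
    refine ⟨n ^ 9, hw.pow_left 9, ?_, ?_⟩
    · rw [← pow_mul, show 9 * 4 = 4 * 3 * 3 from rfl, pow_mul, pow_mul, hRexp _ hn4, one_pow]
    · rw [map_pow, hMn, show 9 = 4 + 4 + 1 from rfl, pow_succ, pow_add, hs, one_mul, one_mul]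
  have huniq : ∀ p q, Commute p t → Commute q t → p ^ 4 = 1 → q ^ 4 = 1 → M p = M q → p = q := by
    intro p q hp hq hp4 hq4 hpq
    obtain ⟨z, hz⟩ := hNR (q⁻¹ * p) (hq.inv_left.mul_left hp)
      ((hker _).1 (by rw [map_mul, map_inv, hpq, inv_mul_cancel]))
    have hp' : p = q * B.r 0 z := by rw [← hz, mul_inv_cancel_left]
    rw [hp', (hcz z q).symm.mul_pow, hq4, one_mul, pow_succ,
      hRexp _ (B.mem _ _), one_mul] at hp4
    rw [hp', hp4, mul_one]
  obtain ⟨I, hIt, hI4, hMI⟩ := hlift gI (by decide +kernel)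
  obtain ⟨J, hJt, hJ4, hMJ⟩ := hlift gJ (by decide +kernel)
  have hrel := rel_sl
  have htt' : Commute t t := Commute.refl t
  have hI2 : I ^ 2 = t := huniq _ _ (hIt.pow_left 2) htt'
    (by rw [← pow_mul, show 2 * 4 = 4 * 2 from rfl, pow_mul, hI4, one_pow])
    (by rw [show 4 = 2 * 2 from rfl, pow_mul, ht2, one_pow])
    (by rw [map_pow, hMI, htM']; decide +kernel)
  have hJ2 : J ^ 2 = t := huniq _ _ (hJt.pow_left 2) htt'
    (by rw [← pow_mul, show 2 * 4 = 4 * 2 from rfl, pow_mul, hJ4, one_pow])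
    (by rw [show 4 = 2 * 2 from rfl, pow_mul, ht2, one_pow])
    (by rw [map_pow, hMJ, htM']; decide +kernel)
  have hJI : J * I = I ^ 3 * J := by
    have : J * I * J⁻¹ = I ^ 3 := huniq _ _ ((hJt.mul_left hIt).mul_left hJt.inv_left)
      (hIt.pow_left 3) (by rw [conj_pow, hI4, mul_one, mul_inv_cancel])
      (by rw [← pow_mul, show 3 * 4 = 4 * 3 from rfl, pow_mul, hI4, one_pow])
      (by rw [map_mul, map_mul, map_inv, map_pow, hMI, hMJ]; decide +kernel)
    exact mul_inv_eq_iff_eq_mul.1 this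
  have hIJ4 : (I * J) ^ 4 = 1 := by
    have h2 : (I * J) ^ 2 = t := by
      calc (I * J) ^ 2 = I * (J * I) * J := by rw [pow_two]; group
        _ = I ^ 4 * J ^ 2 := by rw [hJI]; simp only [pow_succ, pow_zero, one_mul, mul_assoc]
        _ = t := by rw [hI4, one_mul, hJ2]
    rw [show 4 = 2 * 2 from rfl, pow_mul, h2, ht2]
  have hrelX : Rel I J W := by
    refine ⟨hI4, by rw [hI2, ← hJ2, pow_two], hJI, hW3, ?_, ?_⟩
    · refine mul_inv_eq_iff_eq_mul.1 (huniq _ _ ((hWt.mul_left hIt).mul_left hWt.inv_left) hJt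
        (by rw [conj_pow, hI4, mul_one, mul_inv_cancel]) hJ4
        (by rw [map_mul, map_mul, map_inv, hMI, hMJ, hMW, hrel.wi, mul_inv_cancel_right]))
    · refine mul_inv_eq_iff_eq_mul.1 (huniq _ _ ((hWt.mul_left hJt).mul_left hWt.inv_left)
        (hIt.mul_left hJt) (by rw [conj_pow, hJ4, mul_one, mul_inv_cancel]) hIJ4
        (by rw [map_mul, map_mul, map_inv, map_mul, hMI, hMJ, hMW, hrel.wj, mul_inv_cancel_right]))
  obtain ⟨σ, hσI, hσJ, hσW⟩ := exists_hom hrelX
  have hgen : ∀ K : Subgroup SL, gI ∈ K → gJ ∈ K → gW ∈ K → ∀ s, s ∈ K := by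
    intro K h1 h2 h3 s
    obtain ⟨t, rfl⟩ := nf_surjective s
    exact K.mul_mem (K.mul_mem (K.pow_mem h1 _) (K.pow_mem h2 _)) (K.pow_mem h3 _)
  have hσt : ∀ s, Commute (σ s) t := by
    intro s
    have := hgen ((Subgroup.centralizer {t}).comap σ) ?_ ?_ ?_ s
    · exact (Subgroup.mem_centralizer_singleton_iff.1 (Subgroup.mem_comap.1 this))
    all_goals rw [Subgroup.mem_comap, Subgroup.mem_centralizer_singleton_iff]
    · rw [hσI]; exact hIt
    · rw [hσJ]; exact hJt
    · rw [hσW]; exact hWt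
  have hσM : ∀ s, M (σ s) = s := by
    intro s
    exact hgen (MonoidHom.eqLocus (M.comp σ) (MonoidHom.id SL))
      (by show M (σ gI) = gI; rw [hσI, hMI]) (by show M (σ gJ) = gJ; rw [hσJ, hMJ])
      (by show M (σ gW) = gW; rw [hσW, hMW]) s
  refine ⟨⟨B.r, σ, B.law, fun s v z => ?_, ⟨fun p q h => ?_, fun x => ?_⟩⟩⟩
  · have := hNconj (σ s) (hσt s) v z
    rw [hσM] at this
    exact mul_inv_eq_iff_eq_mul.1 this
  · obtain ⟨⟨v, z⟩, s⟩ := p
    obtain ⟨⟨w, y⟩, u⟩ := q
    dsimp only at h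
    have hs := congrArg M h
    rw [map_mul, map_mul, (hker _).2 (B.mem _ _), (hker _).2 (B.mem _ _), one_mul, one_mul,
      hσM, hσM] at hs
    subst hs
    obtain ⟨e1, e2⟩ := B.inj _ _ _ _ (mul_right_cancel h)
    rw [e1, e2]
  · obtain ⟨v, z, hvz⟩ := B.surj (x * (σ (M x))⁻¹)
      ((hker _).1 (by rw [map_mul, map_inv, hσM, mul_inv_cancel]))
    exact ⟨((v, z), M x), by show B.r v z * σ (M x) = x; rw [hvz, inv_mul_cancel_right]⟩

end CfsgLib.Recog45.ExtraThree
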