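import Mathlib
import Cfsg.Prelude.Def_Classical
import Cfsg.Agent.Lib.Sp.Card
import Cfsg.Agent.Lib.Recog45.HeisenbergFrame

/-!
The centralizer of a transvection in `PSp₄(3)` as a split extension of `3^{1+2}` by `SL₂(3)`
(helper45).
-/

set_option autoImplicit false

namespace CfsgLib.Recog45.PSpThree

open CfsgLib.Recog45.HeisenbergFrame Matrix

abbrev Idx := Fin 2 ⊕ Fin 2

variable {F : Type*} [Field F]

/-- the unipotent radical of the stabilizer of the first vector -/
def gmat (v1 v2 z : F) : Matrix Idx Idx F :=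
  fromBlocks !![1, -v2; 0, 1] !![z, v1; v1, 0] 0 !![1, 0; v2, 1]

/-- the Levi factor -/
def smat (a b c d : F) : Matrix Idx Idx F :=
  fromBlocks !![1, 0; 0, a] !![0, 0; 0, b] !![0, 0; 0, c] !![1, 0; 0, d]

theorem gmat_mem (v1 v2 z : F) : gmat v1 v2 z ∈ symplecticGroup (Fin 2) F := by
  rw [SymplecticGroup.mem_iff]
  ext (i | i) (j | j) <;> fin_cases i <;> fin_cases j <;>
    simp [gmat, J, Matrix.mul_apply, Fintype.sum_sum_type, Fin.sum_univ_two, fromBlocks, Matrix.one_apply] <;> ring

theorem smat_mem (a b c d : F) (h : a * d - b * c = 1) :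
    smat a b c d ∈ symplecticGroup (Fin 2) F := by
  rw [SymplecticGroup.mem_iff]
  ext (i | i) (j | j) <;> fin_cases i <;> fin_cases j <;>
    simp [smat, J, Matrix.mul_apply, Fintype.sum_sum_type, Fin.sum_univ_two, fromBlocks, Matrix.one_apply] <;>
    first
      | linear_combination h
      | linear_combination -h
      | ring

theorem gmat_mul (v1 v2 z w1 w2 y : F) :
    gmat v1 v2 z * gmat w1 w2 y = gmat (v1 + w1) (v2 + w2) (z + y + (v1 * w2 - v2 * w1)) := by
  ext (i | i) (j | j) <;> fin_cases i <;> fin_cases j <;>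
    simp [gmat, Matrix.mul_apply, Fintype.sum_sum_type, Fin.sum_univ_two, fromBlocks] <;> ring

theorem smat_mul (a b c d a' b' c' d' : F) :
    smat a b c d * smat a' b' c' d' =
      smat (a * a' + b * c') (a * b' + b * d') (c * a' + d * c') (c * b' + d * d') := by
  ext (i | i) (j | j) <;> fin_cases i <;> fin_cases j <;>
    simp [smat, Matrix.mul_apply, Fintype.sum_sum_type, Fin.sum_univ_two, fromBlocks]

theorem smat_mul_gmat (a b c d v1 v2 z : F) (h : a * d - b * c = 1) :
    smat a b c d * gmat v1 v2 z = gmat (a * v1 + b * v2) (c * v1 + d * v2) z * smat a b c d := by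
  ext (i | i) (j | j) <;> fin_cases i <;> fin_cases j <;>
    simp [smat, gmat, Matrix.mul_apply, Fintype.sum_sum_type, Fin.sum_univ_two, fromBlocks] <;>
    first
      | linear_combination v1 * h
      | linear_combination -v1 * h
      | linear_combination v2 * h
      | linear_combination -v2 * h
      | ring

theorem smat_one : smat (1 : F) 0 0 1 = 1 := by
  ext (i | i) (j | j) <;> fin_cases i <;> fin_cases j <;> simp [smat, fromBlocks]

/-- Matrices commuting with the transvection. -/
theorem exists_eq_gmat_smat (A : symplecticGroup (Fin 2) F)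
    (hA : (A : Matrix Idx Idx F) * gmat (0 : F) 0 1 = gmat (0 : F) 0 1 * (A : Matrix Idx Idx F))
    (hd : (A : Matrix Idx Idx F) (.inl 0) (.inl 0) = 1) :
    ∃ v1 v2 z a b c d, a * d - b * c = 1 ∧
      (A : Matrix Idx Idx F) = gmat v1 v2 z * smat a b c d := by
  have hS := (SymplecticGroup.mem_iff').1 A.2
  set M : Matrix Idx Idx F := A.1 with hM
  have e : ∀ i j : Idx, (M * gmat (0 : F) 0 1) i j = (gmat (0 : F) 0 1 * M) i j := fun i j => by rw [hA]
  have c1 := e (.inl 0) (.inr 0)
  have c2 := e (.inl 1) (.inr 0)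
  have c3 := e (.inr 0) (.inr 0)
  have c4 := e (.inr 1) (.inr 0)
  have r2 := e (.inl 0) (.inl 1)
  have r3 := e (.inl 0) (.inr 1)
  have r1 := e (.inl 0) (.inl 0)
  simp [gmat, Matrix.mul_apply, Fintype.sum_sum_type, Fin.sum_univ_two, fromBlocks]
    at c1 c2 c3 c4 r1 r2 r3
  rw [hd] at c1
  have s : ∀ i j : Idx, (Mᵀ * J (Fin 2) F * M) i j = J (Fin 2) F i j := fun i j => by rw [hS]
  have s1 := s (.inl 1) (.inr 1)
  have s2 := s (.inl 1) (.inr 0)
  have s3 := s (.inr 1) (.inr 0)
  have f3 : M (.inr 0) (.inr 0) = 1 := by linear_combination -c1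
  simp [J, Matrix.mul_apply, Fintype.sum_sum_type, Fin.sum_univ_two, fromBlocks, Matrix.one_apply,
    c2, c3, c4, r2, r3, f3] at s1 s2 s3
  refine ⟨M (.inl 1) (.inr 0), M (.inr 1) (.inr 0), M (.inl 0) (.inr 0), M (.inl 1) (.inl 1),
    M (.inl 1) (.inr 1), M (.inr 1) (.inl 1), M (.inr 1) (.inr 1), ?_, ?_⟩
  · linear_combination -s1
  · ext (i | i) (j | j) <;> fin_cases i <;> fin_cases j <;>
      simp [gmat, smat, Matrix.mul_apply, Fintype.sum_sum_type, Fin.sum_univ_two, fromBlocks,
        c2, c3, c4, r1, r2, r3, f3, hd] <;>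
      first
        | linear_combination s2
        | linear_combination -s2
        | linear_combination s3
        | linear_combination -s3

end CfsgLib.Recog45.PSpThree
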